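import Mathlib

set_option autoImplicit false
universe w v u

namespace H5SigmaConst

open CategoryTheory CategoryTheory.Limits

variable {C : Type u} [Category.{v} C] [HasFiniteProducts C] [HasCoproducts.{w} C]

/-- the discrete object -/
noncomputable abbrev S (I : Type w) : C := ∐ fun _ : I => ⊤_ C

/-- the map on discrete objects -/
noncomputable abbrev m {I J : Type w} (f : I → J) : S (C := C) I ⟶ S J :=
  Limits.Sigma.map' f fun _ => 𝟙 _

lemma ι_map {I J : Type w} (f : I → J) (i : I) :
    Sigma.ι (fun _ : I => ⊤_ C) i ≫ m f = Sigma.ι (fun _ : J => ⊤_ C) (f i) := by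
  simp [m]

/-- the canonical map of the hypothesis -/
noncomputable def hmap (I : Type w) (U : C) : (∐ fun _ : I => U) ⟶ S I ⨯ U :=
  Sigma.desc fun i : I => prod.lift (terminal.from U ≫ Sigma.ι (fun _ : I => ⊤_ C) i) (𝟙 U)

/-- comparison -/
noncomputable def pc (I J : Type w) : S (C := C) (I × J) ⟶ S I ⨯ S J :=
  prod.lift (m (Prod.fst : I × J → I)) (m (Prod.snd : I × J → J))

lemma key (I J : Type w) (i : I) (j : J) :
    Sigma.ι (fun _ : I × J => ⊤_ C) (i, j) ≫ pc (C := C) I J =
      Sigma.ι (fun _ : J => ⊤_ C) j ≫ Sigma.ι (fun _ : I => S (C := C) J) i ≫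
        hmap I (S (C := C) J) := by
  apply Limits.prod.hom_ext
  · simp only [pc, Category.assoc, prod.lift_fst, hmap, colimit.ι_desc, Cofan.mk_ι_app]
    rw [ι_map]
    rw [← Category.assoc (Sigma.ι (fun _ : J => ⊤_ C) j)]
    have : Sigma.ι (fun _ : J => ⊤_ C) j ≫ terminal.from (S (C := C) J) = 𝟙 _ :=
      Subsingleton.elim _ _
    rw [this, Category.id_comp]
  · simp only [pc, Category.assoc, prod.lift_snd, hmap, colimit.ι_desc, Cofan.mk_ι_app]
    rw [ι_map, Category.comp_id]

variable (h : ∀ (I : Type w) (U : C), IsIso (Sigma.desc fun i : I =>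
      prod.lift (terminal.from U ≫ Sigma.ι (fun _ : I => ⊤_ C) i) (𝟙 U)))

include h in
lemma isIso_pc (I J : Type w) : IsIso (pc (C := C) I J) := by
  haveI : IsIso (hmap (C := C) I (S (C := C) J)) := h I _
  let G : S (C := C) I ⨯ S (C := C) J ⟶ S (C := C) (I × J) :=
    inv (hmap (C := C) I (S (C := C) J)) ≫
      Sigma.desc fun i : I => m (fun j : J => ((i, j) : I × J))
  have hG : ∀ (i : I) (j : J), Sigma.ι (fun _ : J => ⊤_ C) j ≫
      Sigma.ι (fun _ : I => S (C := C) J) i ≫
      (Sigma.desc fun i : I => m (C := C) (fun j : J => ((i, j) : I × J))) =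
      Sigma.ι (fun _ : I × J => ⊤_ C) (i, j) := by
    intro i j
    rw [colimit.ι_desc, Cofan.mk_ι_app, ι_map]
  refine ⟨G, ?_, ?_⟩
  · apply Sigma.hom_ext
    rintro ⟨i, j⟩
    rw [← Category.assoc, key, Category.comp_id]
    simp only [G, Category.assoc, IsIso.hom_inv_id_assoc]
    exact hG i j
  · rw [← cancel_epi (hmap (C := C) I (S (C := C) J))]
    simp only [G, Category.assoc, IsIso.hom_inv_id_assoc, Category.comp_id]
    apply Sigma.hom_ext
    intro i
    apply Sigma.hom_ext
    intro j
    have e1 := key (C := C) I J i j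
    have e2 := hG i j
    rw [reassoc_of% e2, e1]



include h in
lemma preservesPair (I J : Type w) : PreservesLimit (pair I J) (sigmaConst.{w}.obj (⊤_ C)) := by
  apply preservesLimit_of_preserves_limit_cone (Types.binaryProductLimit I J)
  apply (isLimitMapConeBinaryFanEquiv _ _ _).symm _
  haveI : IsIso ((limit.isLimit (pair ((sigmaConst.{w}.obj (⊤_ C)).obj I)
      ((sigmaConst.{w}.obj (⊤_ C)).obj J))).lift
      (BinaryFan.mk ((sigmaConst.{w}.obj (⊤_ C)).map (↾(Prod.fst : I × J → I)))
        ((sigmaConst.{w}.obj (⊤_ C)).map (↾(Prod.snd : I × J → J))))) := isIso_pc h I J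
  exact IsLimit.ofPointIso (limit.isLimit _)

lemma preservesTerminal : PreservesLimit (Functor.empty.{0} (Type w)) (sigmaConst.{w}.obj (⊤_ C)) := by
  apply preservesLimit_of_preserves_limit_cone (Types.isTerminalPUnit.{w})
  apply (isLimitMapConeEmptyConeEquiv _ _).symm _
  change IsTerminal (S (C := C) PUnit.{w+1})
  refine IsTerminal.ofIso terminalIsTerminal
    ⟨Sigma.ι (fun _ : PUnit.{w+1} => ⊤_ C) PUnit.unit, terminal.from _, Subsingleton.elim _ _, ?_⟩
  apply Sigma.hom_ext
  rintro ⟨⟩
  rw [← Category.assoc, Category.comp_id]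
  have : Sigma.ι (fun _ : PUnit.{w+1} => ⊤_ C) PUnit.unit ≫ terminal.from (S (C := C) PUnit.{w+1}) = 𝟙 _ :=
    Subsingleton.elim _ _
  rw [this, Category.id_comp]

include h in
theorem main : PreservesFiniteProducts (sigmaConst.{w}.obj (⊤_ C)) := by
  haveI : PreservesLimitsOfShape (Discrete WalkingPair) (sigmaConst.{w}.obj (⊤_ C)) := by
    refine ⟨fun {K} => ?_⟩
    haveI := preservesPair h (K.obj ⟨WalkingPair.left⟩) (K.obj ⟨WalkingPair.right⟩)
    exact preservesLimit_of_iso_diagram _ (diagramIsoPair K).symm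
  haveI : PreservesLimitsOfShape (Discrete.{0} PEmpty) (sigmaConst.{w}.obj (⊤_ C)) := by
    haveI := preservesTerminal (C := C)
    exact preservesLimitsOfShape_pempty_of_preservesTerminal _
  exact PreservesFiniteProducts.of_preserves_binary_and_terminal _

end H5SigmaConst
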